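import Mathlib.Algebra.Homology.ShortComplex.Ab
import Mathlib.Algebra.Homology.ShortComplex.HomologicalComplex
import Mathlib.Algebra.Category.Grp.Abelian
import Mathlib.Algebra.Category.Grp.EpiMono

/-!
# Elementwise criteria for mono/epi maps on homology of complexes of abelian groups
-/

universe v

open CategoryTheory Limits

namespace Groth.Agent.DSites.LimCx

variable {ι : Type*} {c : ComplexShape ι}

section elementwise

variable (K : HomologicalComplex AddCommGrpCat.{v} c)

lemma iCycles_injective (i : ι) : Function.Injective (K.iCycles i).hom :=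
  (AddCommGrpCat.mono_iff_injective _).mp inferInstance

lemma homologyπ_surjective (i : ι) : Function.Surjective (K.homologyπ i).hom :=
  (AddCommGrpCat.epi_iff_surjective _).mp inferInstance

lemma iCycles_d_apply (i j : ι) (z : K.cycles i) : (K.d i j).hom ((K.iCycles i).hom z) = 0 := by
  have h : ((K.iCycles i) ≫ K.d i j).hom z = 0 := by rw [K.iCycles_d]; rfl
  exact h

lemma exists_iCycles_eq (i j : ι) (hj : c.next i = j) (x : K.X i) (hx : (K.d i j).hom x = 0) :
    ∃ z, (K.iCycles i).hom z = x := by
  have h := ShortComplex.exact_of_f_is_kernel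
    (ShortComplex.mk (K.iCycles i) (K.d i j) (K.iCycles_d i j)) (K.cyclesIsKernel i j hj)
  rw [ShortComplex.ab_exact_iff] at h
  exact h x hx

lemma homologyπ_eq_zero_iff (i j : ι) (hj : c.prev i = j) (z : K.cycles i) :
    (K.homologyπ i).hom z = 0 ↔ ∃ w, (K.d j i).hom w = (K.iCycles i).hom z := by
  have h := ShortComplex.exact_of_g_is_cokernel
    (ShortComplex.mk (K.toCycles j i) (K.homologyπ i) (K.toCycles_comp_homologyπ j i))
    (K.homologyIsCokernel j i hj)
  rw [ShortComplex.ab_exact_iff] at h
  have hd : ∀ w, (K.iCycles i).hom ((K.toCycles j i).hom w) = (K.d j i).hom w := fun w => by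
    have := K.toCycles_i j i
    exact congrArg (fun φ => φ.hom w) this
  constructor
  · intro hz
    obtain ⟨w, hw⟩ := h z hz
    refine ⟨w, ?_⟩
    have hw' : (K.toCycles j i).hom w = z := hw
    rw [← hd, hw']
  · rintro ⟨w, hw⟩
    have : (K.toCycles j i).hom w = z := iCycles_injective K i ((hd w).trans hw)
    rw [← this]
    exact congrArg (fun φ => φ.hom w) (K.toCycles_comp_homologyπ j i)

variable {K} {L : HomologicalComplex AddCommGrpCat.{v} c} (f : K ⟶ L)

lemma iCycles_cyclesMap (i : ι) (z : K.cycles i) :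
    (L.iCycles i).hom ((HomologicalComplex.cyclesMap f i).hom z) = (f.f i).hom ((K.iCycles i).hom z) :=
  congrArg (fun φ => φ.hom z) (HomologicalComplex.cyclesMap_i f i)

lemma homologyMap_homologyπ (i : ι) (z : K.cycles i) :
    (HomologicalComplex.homologyMap f i).hom ((K.homologyπ i).hom z) =
      (L.homologyπ i).hom ((HomologicalComplex.cyclesMap f i).hom z) :=
  congrArg (fun φ => φ.hom z) (HomologicalComplex.homologyπ_naturality f i)

/-- Injectivity on homology, elementwise. -/
theorem mono_homologyMap_iff (i j k : ι) (hj : c.prev i = j) (hk : c.next i = k) :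
    Mono (HomologicalComplex.homologyMap f i) ↔
      ∀ x, (K.d i k).hom x = 0 → (∃ w, (L.d j i).hom w = (f.f i).hom x) → ∃ w, (K.d j i).hom w = x := by
  rw [AddCommGrpCat.mono_iff_injective]
  constructor
  · intro h x hx hw
    obtain ⟨z, rfl⟩ := exists_iCycles_eq K i k hk x hx
    refine (homologyπ_eq_zero_iff K i j hj z).mp (h ?_)
    show (HomologicalComplex.homologyMap f i).hom _ = (HomologicalComplex.homologyMap f i).hom 0
    rw [map_zero, homologyMap_homologyπ]
    refine (homologyπ_eq_zero_iff L i j hj _).mpr ?_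
    obtain ⟨w, hw⟩ := hw
    exact ⟨w, by rw [iCycles_cyclesMap, hw]⟩
  · intro h a b hab
    rw [← sub_eq_zero]
    obtain ⟨z, hz⟩ := homologyπ_surjective K i (a - b)
    rw [← hz]
    have h0 : (L.homologyπ i).hom ((HomologicalComplex.cyclesMap f i).hom z) = 0 := by
      rw [← homologyMap_homologyπ, hz, map_sub]
      exact sub_eq_zero.mpr hab
    obtain ⟨w, hw⟩ := (homologyπ_eq_zero_iff L i j hj _).mp h0
    exact (homologyπ_eq_zero_iff K i j hj z).mpr
      (h _ (iCycles_d_apply K i k z) ⟨w, by rw [hw, iCycles_cyclesMap]⟩)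

/-- Surjectivity on homology, elementwise. -/
theorem epi_homologyMap_iff (i j k : ι) (hj : c.prev i = j) (hk : c.next i = k) :
    Epi (HomologicalComplex.homologyMap f i) ↔
      ∀ y, (L.d i k).hom y = 0 → ∃ x, (K.d i k).hom x = 0 ∧ ∃ w, (L.d j i).hom w = y - (f.f i).hom x := by
  rw [AddCommGrpCat.epi_iff_surjective]
  constructor
  · intro h y hy
    obtain ⟨z, rfl⟩ := exists_iCycles_eq L i k hk y hy
    obtain ⟨a, ha⟩ := h ((L.homologyπ i).hom z)
    obtain ⟨x, rfl⟩ := homologyπ_surjective K i a
    refine ⟨(K.iCycles i).hom x, iCycles_d_apply K i k x, ?_⟩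
    have h0 : (L.homologyπ i).hom (z - (HomologicalComplex.cyclesMap f i).hom x) = 0 := by
      rw [map_sub, ← homologyMap_homologyπ, sub_eq_zero]
      exact ha.symm
    obtain ⟨w, hw⟩ := (homologyπ_eq_zero_iff L i j hj _).mp h0
    exact ⟨w, by rw [hw, map_sub, iCycles_cyclesMap]⟩
  · intro h b
    obtain ⟨z, rfl⟩ := homologyπ_surjective L i b
    obtain ⟨x, hx, w, hw⟩ := h _ (iCycles_d_apply L i k z)
    obtain ⟨x', rfl⟩ := exists_iCycles_eq K i k hk x hx
    refine ⟨(K.homologyπ i).hom x', ?_⟩
    show (HomologicalComplex.homologyMap f i).hom _ = _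
    rw [homologyMap_homologyπ, eq_comm, ← sub_eq_zero, ← map_sub]
    exact (homologyπ_eq_zero_iff L i j hj _).mpr ⟨w, by rw [hw, map_sub, iCycles_cyclesMap]⟩

end elementwise

end Groth.Agent.DSites.LimCx
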