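import Groth.Agent.DSites.LimCx.AbHomology
import Groth.Prelude.Def_CohCx
import Mathlib.CategoryTheory.Sites.LocallyBijective
import Mathlib.CategoryTheory.Functor.OfSequence
import Mathlib.Algebra.Homology.ShortComplex.Ab

/-!
# Cohomology sheaves of a limit of an inverse system of complexes

If on a class of objects covering every object the inverse systems of sections satisfy the vanishing
conditions making `H^m(F(U)) → H^m(F_{n₀}(U))` bijective, the map of cohomology sheaves
`H^m(lim F) → H^m(F_{n₀})` is an isomorphism.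
-/

universe u

set_option autoImplicit false
set_option backward.isDefEq.respectTransparency false
set_option backward.isDefEq.respectTransparency.types false

open CategoryTheory Limits Opposite

namespace Groth.Agent.DSites.LimCx

section Alg

variable {A : ℕ → CochainComplex AddCommGrpCat.{u} ℤ} (t : ∀ n, A (n + 1) ⟶ A n)
  {L : CochainComplex AddCommGrpCat.{u} ℤ} (p : ∀ n, L ⟶ A n)

lemma comm_el {K K' : CochainComplex AddCommGrpCat.{u} ℤ} (f : K ⟶ K') (i j : ℤ) (x : K.X i) :
    (K'.d i j).hom ((f.f i).hom x) = (f.f j).hom ((K.d i j).hom x) :=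
  ConcreteCategory.congr_hom (f.comm i j) x

lemma d_d_el (K : CochainComplex AddCommGrpCat.{u} ℤ) (i j k : ℤ) (x : K.X i) :
    (K.d j k).hom ((K.d i j).hom x) = 0 := by
  exact ConcreteCategory.congr_hom (K.d_comp_d i j k) x

/-- `transition` at a cycle-independent level: a composite of transition maps. -/
lemma exists_extend (n₀ : ℕ) {j : ℤ} (a : ∀ k, (A (n₀ + k)).X j)
    (ha : ∀ k, ((t (n₀ + k)).f j).hom (a (k + 1)) = a k) :
    ∃ b : ∀ n, (A n).X j, (∀ k, b (n₀ + k) = a k) ∧ ∀ n, ((t n).f j).hom (b (n + 1)) = b n := by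
  induction n₀ with
  | zero =>
    have key : ∀ n, ∃ v : (A n).X j, ∀ (k : ℕ) (h : 0 + k = n), h ▸ a k = v := fun n =>
      ⟨(Nat.zero_add n) ▸ a n, fun k h => by
        obtain rfl : k = n := by omega
        rfl⟩
    choose b hb using key
    refine ⟨b, fun k => (hb _ k rfl).symm, fun n => ?_⟩
    obtain ⟨k, rfl⟩ : ∃ k, n = 0 + k := ⟨n, by omega⟩
    have h1 : a (k + 1) = b (0 + k + 1) := hb _ (k + 1) rfl
    have h0 : a k = b (0 + k) := hb _ k rfl
    rw [← h1, ← h0, ha k]
  | succ n₀ ih =>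
    let a' : ∀ k, (A (n₀ + k)).X j := fun k => match k with
      | 0 => ((t n₀).f j).hom ((show n₀ + 1 + 0 = n₀ + 1 from rfl) ▸ a 0)
      | k + 1 => (show n₀ + 1 + k = n₀ + (k + 1) by omega) ▸ a k
    have cast_ : ∀ {n n' : ℕ} (h : n = n') (x : (A (n + 1)).X j),
        ((t n').f j).hom ((congrArg (· + 1) h) ▸ x) = h ▸ ((t n).f j).hom x := by
      rintro n n' rfl x; rfl
    have ha' : ∀ k, ((t (n₀ + k)).f j).hom (a' (k + 1)) = a' k := by
      rintro (_ | k)
      · rfl
      · exact (cast_ (show n₀ + 1 + k = n₀ + (k + 1) by omega) (a (k + 1))).trans (by rw [ha k])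
    obtain ⟨b, hb, hb'⟩ := ih a' ha'
    refine ⟨b, fun k => ?_, hb'⟩
    have hc : ∀ {n n' : ℕ} (h : n = n') (x : (A n).X j), b n' = h ▸ x → b n = x := by
      rintro n n' rfl x e; exact e
    exact hc (show n₀ + 1 + k = n₀ + (k + 1) by omega) (a k) (hb (k + 1))

/-- Cocycles with cohomologous components give a cocycle of the limit. -/
theorem exists_lift (n₀ : ℕ) (m : ℤ)
    (ext₁ : ∀ x : L.X (m + 1), (∀ n, ((p n).f (m + 1)).hom x = 0) → x = 0)
    (glue : ∀ a : ∀ n, (A n).X m, (∀ n, ((t n).f m).hom (a (n + 1)) = a n) →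
      ∃ x : L.X m, ∀ n, ((p n).f m).hom x = a n)
    (hlim : CohCx.LimOneIsZero (fun n => (A n).X (m - 1)) (fun n => ((t n).f (m - 1)).hom))
    (hc : ∀ k, IsIso (HomologicalComplex.homologyMap (CohCx.transition A t n₀ k) m))
    (y : (A n₀).X m) (hy : ((A n₀).d m (m + 1)).hom y = 0) :
    ∃ x : L.X m, (L.d m (m + 1)).hom x = 0 ∧
      ∃ w, ((A n₀).d (m - 1) m).hom w = y - ((p n₀).f m).hom x := by
  have hs : ∀ k, ∃ x : (A (n₀ + k)).X m, ((A (n₀ + k)).d m (m + 1)).hom x = 0 ∧
      ∃ w, ((A n₀).d (m - 1) m).hom w = y - ((CohCx.transition A t n₀ k).f m).hom x := fun k => by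
    have := hc k
    exact (epi_homologyMap_iff _ m (m - 1) (m + 1) (by simp) (by simp)).1 inferInstance y hy
  choose x₀ hx₀ w₀ hw₀ using hs
  have hdiff : ∀ k, ∃ v : (A (n₀ + k)).X (m - 1),
      ((A (n₀ + k)).d (m - 1) m).hom v = ((t (n₀ + k)).f m).hom (x₀ (k + 1)) - x₀ k := fun k => by
    have := hc k
    refine (mono_homologyMap_iff (CohCx.transition A t n₀ k) m (m - 1) (m + 1) (by simp) (by simp)).1
      inferInstance _ ?_ ⟨w₀ k - w₀ (k + 1), ?_⟩
    · have h1 : ((A (n₀ + k + 1)).d m (m + 1)).hom (x₀ (k + 1)) = 0 := hx₀ (k + 1)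
      rw [map_sub, comm_el, h1, map_zero, hx₀, sub_zero]
    · rw [map_sub, hw₀, hw₀, map_sub]
      have : ((CohCx.transition A t n₀ (k + 1)).f m).hom (x₀ (k + 1)) =
          ((CohCx.transition A t n₀ k).f m).hom (((t (n₀ + k)).f m).hom (x₀ (k + 1))) := rfl
      rw [this]
      abel
  choose v hv using hdiff
  classical
  obtain ⟨z, hz⟩ := hlim (fun n => if h : n₀ ≤ n then (show n₀ + (n - n₀) = n by omega) ▸ v (n - n₀) else 0)
  have hz' : ∀ k, z (n₀ + k) - ((t (n₀ + k)).f (m - 1)).hom (z (n₀ + k + 1)) = v k := fun k => by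
    have e := congrFun hz (n₀ + k)
    simp only at e
    rw [e, dif_pos (by omega)]
    have : ∀ {i : ℕ} (h : n₀ + i = n₀ + k) (_ : i = k), h ▸ v i = v k := by
      rintro i h rfl; rfl
    exact this _ (by omega)
  obtain ⟨b, hb, hb'⟩ := exists_extend t n₀ (j := m)
    (fun k => x₀ k + ((A (n₀ + k)).d (m - 1) m).hom (z (n₀ + k))) fun k => by
      have e := congrArg ((A (n₀ + k)).d (m - 1) m).hom (hz' k)
      rw [map_sub, hv k] at e
      rw [map_add]
      show _ + ((t (n₀ + k)).f m).hom (((A (n₀ + k + 1)).d (m - 1) m).hom (z (n₀ + k + 1))) = _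
      rw [← comm_el (t (n₀ + k))]
      rw [show ((A (n₀ + k)).d (m - 1) m).hom (z (n₀ + k)) = ((t (n₀ + k)).f m).hom (x₀ (k + 1)) - x₀ k +
        ((A (n₀ + k)).d (m - 1) m).hom (((t (n₀ + k)).f (m - 1)).hom (z (n₀ + k + 1))) from
          sub_eq_iff_eq_add.1 e]
      show _ + ((A (n₀ + k)).d (m - 1) m).hom (((t (n₀ + k)).f (m - 1)).hom (z (n₀ + k + 1))) = _
      abel
  obtain ⟨x, hx⟩ := glue b hb'
  have hd : ∀ k, ((A (n₀ + k)).d m (m + 1)).hom (b (n₀ + k)) = 0 := fun k => by
    rw [hb, map_add, hx₀, zero_add]; exact d_d_el _ _ _ _ _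
  have hd' : ∀ n, ((A n).d m (m + 1)).hom (b n) = 0 := fun n => by
    have : ∀ d i : ℕ, i + d = n₀ → ((A i).d m (m + 1)).hom (b i) = 0 := fun d => by
      induction d with
      | zero => intro i hi; obtain rfl : i = n₀ := by omega
                exact hd 0
      | succ d ih =>
        intro i hi
        rw [← hb' i, comm_el, ih (i + 1) (by omega), map_zero]
    by_cases h : n₀ ≤ n
    · obtain ⟨k, rfl⟩ := Nat.exists_eq_add_of_le h
      exact hd k
    · exact this (n₀ - n) n (by omega)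
  refine ⟨x, ext₁ _ fun n => by rw [← comm_el, hx, hd'], w₀ 0 - z n₀, ?_⟩
  have e0 : b n₀ = x₀ 0 + ((A n₀).d (m - 1) m).hom (z n₀) := hb 0
  rw [hx, e0, map_sub, hw₀]
  have : ((CohCx.transition A t n₀ 0).f m).hom (x₀ 0) = x₀ 0 := rfl
  rw [this]
  exact (sub_sub y (x₀ 0) _)

/-- A cocycle of the limit which is a coboundary at level `n₀` is a coboundary. -/
theorem exists_boundary (n₀ : ℕ) (m : ℤ)
    (ext₀ : ∀ x y : L.X m, (∀ n, ((p n).f m).hom x = ((p n).f m).hom y) → x = y)
    (glue : ∀ a : ∀ n, (A n).X (m - 1), (∀ n, ((t n).f (m - 1)).hom (a (n + 1)) = a n) →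
      ∃ x : L.X (m - 1), ∀ n, ((p n).f (m - 1)).hom x = a n)
    (hp : ∀ n, p (n + 1) ≫ t n = p n)
    (hlim : CohCx.LimOneIsZero (fun n => (A n).X (m - 2)) (fun n => ((t n).f (m - 2)).hom))
    (hlimH : CohCx.LimOneIsZero (fun n => (A n).homology (m - 1))
      (fun n => (HomologicalComplex.homologyMap (t n) (m - 1)).hom))
    (hc : ∀ k, IsIso (HomologicalComplex.homologyMap (CohCx.transition A t n₀ k) m))
    (x : L.X m) (hx : (L.d m (m + 1)).hom x = 0)
    (hx0 : ∃ w, ((A n₀).d (m - 1) m).hom w = ((p n₀).f m).hom x) :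
    ∃ w, (L.d (m - 1) m).hom w = x := by
  have hp' : ∀ n (j : ℤ) (y : L.X j), ((t n).f j).hom (((p (n + 1)).f j).hom y) = ((p n).f j).hom y :=
    fun n j y => ConcreteCategory.congr_hom (congrArg (fun f => HomologicalComplex.Hom.f f j) (hp n)) y
  have htr : ∀ k, ((CohCx.transition A t n₀ k).f m).hom (((p (n₀ + k)).f m).hom x) = ((p n₀).f m).hom x :=
    fun k => by
      induction k with
      | zero => rfl
      | succ k ih => exact (congrArg ((CohCx.transition A t n₀ k).f m).hom (hp' (n₀ + k) m x)).trans ih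
  have hall : ∀ n, ∃ w, ((A n).d (m - 1) m).hom w = ((p n).f m).hom x := fun n => by
    by_cases h : n₀ ≤ n
    · obtain ⟨k, rfl⟩ := Nat.exists_eq_add_of_le h
      have := hc k
      exact (mono_homologyMap_iff (CohCx.transition A t n₀ k) m (m - 1) (m + 1) (by simp) (by simp)).1
        inferInstance _ (by rw [comm_el, hx, map_zero]) (by rw [htr]; exact hx0)
    · have : ∀ d i : ℕ, i + d = n₀ → ∃ w, ((A i).d (m - 1) m).hom w = ((p i).f m).hom x := fun d => by
        induction d with
        | zero => intro i hi; obtain rfl : i = n₀ := by omega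
                  exact hx0
        | succ d ih =>
          intro i hi
          obtain ⟨w, hw⟩ := ih (i + 1) (by omega)
          exact ⟨((t i).f (m - 1)).hom w, by rw [comm_el, hw, hp']⟩
      exact this (n₀ - n) n (by omega)
  choose w hw using hall
  let e : ∀ n, (A n).X (m - 1) := fun n => ((t n).f (m - 1)).hom (w (n + 1)) - w n
  have he : ∀ n, ((A n).d (m - 1) m).hom (e n) = 0 := fun n => by
    rw [map_sub, comm_el, hw, hw, hp', sub_self]
  have hcls : ∀ n, ∃ z : (A n).cycles (m - 1), ((A n).iCycles (m - 1)).hom z = e n := fun n =>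
    exists_iCycles_eq (A n) (m - 1) m (by simp) _ (he n)
  choose z hz using hcls
  obtain ⟨c, hc'⟩ := hlimH fun n => ((A n).homologyπ (m - 1)).hom (z n)
  choose a ha using fun n => homologyπ_surjective (A n) (m - 1) (c n)
  have hb : ∀ n, ∃ v : (A n).X (m - 2), ((A n).d (m - 2) (m - 1)).hom v =
      e n - (((A n).iCycles (m - 1)).hom (a n) -
        ((t n).f (m - 1)).hom (((A (n + 1)).iCycles (m - 1)).hom (a (n + 1)))) := fun n => by
    have h1 : ((A n).homologyπ (m - 1)).hom
        (z n - (a n - (HomologicalComplex.cyclesMap (t n) (m - 1)).hom (a (n + 1)))) = 0 := by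
      rw [map_sub, map_sub, ← homologyMap_homologyπ, ha, ha, sub_eq_zero]
      exact (congrFun hc' n).symm
    obtain ⟨v, hv⟩ := (homologyπ_eq_zero_iff (A n) (m - 1) (m - 2) (by simp; omega) _).1 h1
    exact ⟨v, by rw [hv, map_sub, map_sub, hz, iCycles_cyclesMap]⟩
  choose v hv using hb
  obtain ⟨s, hs⟩ := hlim v
  let w' : ∀ n, (A n).X (m - 1) := fun n =>
    w n + ((A n).iCycles (m - 1)).hom (a n) + ((A n).d (m - 2) (m - 1)).hom (s n)
  have hw' : ∀ n, ((t n).f (m - 1)).hom (w' (n + 1)) = w' n := fun n => by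
    have h2 : ((A n).d (m - 2) (m - 1)).hom (s n - ((t n).f (m - 2)).hom (s (n + 1))) =
        ((A n).d (m - 2) (m - 1)).hom (v n) := congrArg _ (congrFun hs n)
    rw [map_sub, hv n, comm_el, sub_eq_iff_eq_add] at h2
    simp only [w', map_add, e] at h2 ⊢
    rw [h2]
    abel
  obtain ⟨W, hW⟩ := glue w' hw'
  refine ⟨W, ext₀ _ _ fun n => ?_⟩
  rw [← comm_el, hW]
  simp only [w', map_add, iCycles_d_apply, hw, d_d_el, add_zero]

include p in
/-- The projection of a limit to the level `n₀` is bijective on cohomology. -/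
theorem isIso_homologyMap (n₀ : ℕ) (m : ℤ)
    (ext : ∀ (j : ℤ) (x y : L.X j), (∀ n, ((p n).f j).hom x = ((p n).f j).hom y) → x = y)
    (glue : ∀ (j : ℤ) (a : ∀ n, (A n).X j), (∀ n, ((t n).f j).hom (a (n + 1)) = a n) →
      ∃ x : L.X j, ∀ n, ((p n).f j).hom x = a n)
    (hp : ∀ n, p (n + 1) ≫ t n = p n)
    (ha : ∀ j : ℤ, (j = m - 2 ∨ j = m - 1) →
      CohCx.LimOneIsZero (fun n => (A n).X j) (fun n => ((t n).f j).hom))
    (hb : CohCx.LimOneIsZero (fun n => (A n).homology (m - 1))
      (fun n => (HomologicalComplex.homologyMap (t n) (m - 1)).hom))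
    (hc : ∀ k, IsIso (HomologicalComplex.homologyMap (CohCx.transition A t n₀ k) m)) :
    IsIso (HomologicalComplex.homologyMap (p n₀) m) := by
  have : Mono (HomologicalComplex.homologyMap (p n₀) m) :=
    (mono_homologyMap_iff (p n₀) m (m - 1) (m + 1) (by simp) (by simp)).2 fun x hx hw =>
      exists_boundary t p n₀ m (ext m) (glue (m - 1)) hp (ha _ (Or.inl rfl)) hb hc x hx hw
  have : Epi (HomologicalComplex.homologyMap (p n₀) m) :=
    (epi_homologyMap_iff (p n₀) m (m - 1) (m + 1) (by simp) (by simp)).2 fun y hy =>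
      exists_lift t p n₀ m (fun x h => ext _ x 0 fun n => by rw [h n, map_zero]) (glue m)
        (ha _ (Or.inr rfl)) hc y hy
  exact isIso_of_mono_of_epi _

end Alg

variable {C : Type u} [SmallCategory C] {J : GrothendieckTopology C}

/-- A morphism of presheaves bijective on a covering class becomes invertible after sheafification. -/
theorem isIso_sheafify_of_bijective_on {P Q : Cᵒᵖ ⥤ AddCommGrpCat.{u}} (g : P ⟶ Q) {B : Set C}
    (hB : ∀ U : C, ∃ (ι : Type u) (Y : ι → C) (f : ∀ i, Y i ⟶ U),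
      Sieve.ofArrows Y f ∈ J U ∧ ∀ i, Y i ∈ B)
    (hb : ∀ U ∈ B, Function.Bijective (g.app (op U)).hom) :
    IsIso ((presheafToSheaf J AddCommGrpCat.{u}).map g) := by
  refine (J.W_iff g).1 ((J.W_iff_isLocallyBijective g).2 ⟨⟨fun {X} x y h => ?_⟩, ⟨fun {U} s => ?_⟩⟩)
  · obtain ⟨ι, Y, f, hf, hY⟩ := hB X.unop
    refine J.superset_covering ?_ hf
    rintro Z k ⟨Z', a, b, ⟨i⟩, rfl⟩
    refine Presheaf.equalizerSieve x y |>.downward_closed ?_ a
    refine (hb _ (hY i)).1 ?_
    exact (ConcreteCategory.congr_hom (g.naturality (f i).op) x).trans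
      ((congrArg (Q.map (f i).op).hom h).trans
        (ConcreteCategory.congr_hom (g.naturality (f i).op) y).symm)
  · obtain ⟨ι, Y, f, hf, hY⟩ := hB U
    refine J.superset_covering ?_ hf
    rintro Z k ⟨Z', a, b, ⟨i⟩, rfl⟩
    refine Presheaf.imageSieve g s |>.downward_closed ?_ a
    exact (hb _ (hY i)).2 _

/-- Isomorphisms on the cohomology of sections over a covering class give isomorphisms of cohomology
sheaves. -/
theorem isIso_homologyMap_of_sections {K L : CochainComplex (Sheaf J AddCommGrpCat.{u}) ℤ} (f : K ⟶ L)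
    (m : ℤ) {B : Set C} (hB : ∀ U : C, ∃ (ι : Type u) (Y : ι → C) (f : ∀ i, Y i ⟶ U),
      Sieve.ofArrows Y f ∈ J U ∧ ∀ i, Y i ∈ B)
    (h : ∀ U ∈ B, IsIso (HomologicalComplex.homologyMap ((CohCx.sectCx J U).map f) m)) :
    IsIso (HomologicalComplex.homologyMap f m) := by
  let G := sheafToPresheaf J AddCommGrpCat.{u}
  let P := presheafToSheaf J AddCommGrpCat.{u}
  let ψ := (HomologicalComplex.shortComplexFunctor _ (ComplexShape.up ℤ) m).map f
  let φ := G.mapShortComplex.map ψ
  have hb : ∀ U ∈ B, Function.Bijective ((ShortComplex.homologyMap φ).app (op U)).hom := fun U hU => by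
    let ev := (evaluation Cᵒᵖ AddCommGrpCat.{u}).obj (op U)
    have h1 : IsIso (ShortComplex.homologyMap (ev.mapShortComplex.map φ)) := h U hU
    have h2 := ShortComplex.mapHomologyIso_hom_naturality φ ev
    have h4 : IsIso (ev.map (ShortComplex.homologyMap φ)) :=
      @IsIso.of_isIso_fac_left _ _ _ _ _ _ _ _ (Iso.isIso_hom _) (IsIso.comp_isIso' h1 (Iso.isIso_hom _)) h2.symm
    exact (ConcreteCategory.isIso_iff_bijective _).1 h4
  have hiso := isIso_sheafify_of_bijective_on (J := J) _ hB hb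
  have h2 := ShortComplex.mapHomologyIso_hom_naturality φ P
  have h5 : IsIso (ShortComplex.homologyMap (P.mapShortComplex.map φ)) := by
    have : IsIso (ShortComplex.homologyMap (P.mapShortComplex.map φ) ≫
        ((G.mapShortComplex.obj _).mapHomologyIso P).hom) := by
      rw [h2]; exact IsIso.comp_isIso' inferInstance hiso
    exact IsIso.of_isIso_comp_right _ ((G.mapShortComplex.obj _).mapHomologyIso P).hom
  let ε := (sheafificationAdjunction J AddCommGrpCat.{u}).counit
  let e : ∀ S : ShortComplex (Sheaf J AddCommGrpCat.{u}),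
      P.mapShortComplex.obj (G.mapShortComplex.obj S) ≅ S := fun S =>
    ShortComplex.isoMk (asIso (ε.app S.X₁)) (asIso (ε.app S.X₂)) (asIso (ε.app S.X₃))
      (ε.naturality S.f).symm (ε.naturality S.g).symm
  have h6 : (e _).hom ≫ ψ = P.mapShortComplex.map φ ≫ (e _).hom :=
    ShortComplex.hom_ext _ _ (ε.naturality ψ.τ₁).symm (ε.naturality ψ.τ₂).symm (ε.naturality ψ.τ₃).symm
  have h7 : ShortComplex.homologyMap (e _).hom ≫ ShortComplex.homologyMap ψ =
      ShortComplex.homologyMap (P.mapShortComplex.map φ) ≫ ShortComplex.homologyMap (e _).hom := by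
    rw [← ShortComplex.homologyMap_comp, ← ShortComplex.homologyMap_comp, h6]
  have : IsIso (ShortComplex.homologyMap (e _).hom ≫ ShortComplex.homologyMap ψ) := by
    rw [h7]; exact IsIso.comp_isIso' h5 inferInstance
  exact IsIso.of_isIso_comp_left (ShortComplex.homologyMap (e _).hom) (ShortComplex.homologyMap ψ)

/-- The theorem. -/
theorem isIso_homologyMap_limit (F : ℕ → CochainComplex (Sheaf J AddCommGrpCat.{u}) ℤ)
    (t : ∀ n, F (n + 1) ⟶ F n) (m : ℤ) (B : Set C)
    (hB : ∀ U : C, ∃ (ι : Type u) (Y : ι → C) (f : ∀ i, Y i ⟶ U),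
      Sieve.ofArrows Y f ∈ J U ∧ ∀ i, Y i ∈ B) (n₀ : ℕ)
    (ha : ∀ U ∈ B, ∀ j : ℤ, (j = m - 2 ∨ j = m - 1) →
      CohCx.LimOneIsZero (fun n => ((F n).X j).obj.obj (op U)) (fun n => (((t n).f j).hom.app (op U)).hom))
    (hb : ∀ U ∈ B, CohCx.LimOneIsZero
      (fun n => ((CohCx.sectCx J U).obj (F n)).homology (m - 1))
      (fun n => (HomologicalComplex.homologyMap ((CohCx.sectCx J U).map (t n)) (m - 1)).hom))
    (hc : ∀ U ∈ B, ∀ k : ℕ, IsIso (HomologicalComplex.homologyMap
      ((CohCx.sectCx J U).map (CohCx.transition F t n₀ k)) m)) :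
    IsIso (HomologicalComplex.homologyMap (limit.π (CohCx.opSequence F t) (op n₀)) m) := by
  refine isIso_homologyMap_of_sections _ m hB fun U hU => ?_
  let D := CohCx.opSequence F t
  have hstep : ∀ n, limit.π D (op (n + 1)) ≫ t n = limit.π D (op n) := fun n => by
    rw [← limit.w D (homOfLE (Nat.le_succ n)).op]
    exact congrArg (limit.π D (op (n + 1)) ≫ ·) (Functor.ofOpSequence_map_homOfLE_succ t n).symm
  have htr : ∀ k, CohCx.transition (fun n => (CohCx.sectCx J U).obj (F n))
      (fun n => (CohCx.sectCx J U).map (t n)) n₀ k =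
      (CohCx.sectCx J U).map (CohCx.transition F t n₀ k) := fun k => by
    induction k with
    | zero => exact ((CohCx.sectCx J U).map_id _).symm
    | succ k ih =>
      show _ ≫ _ = (CohCx.sectCx J U).map (_ ≫ _)
      rw [ih, ← Functor.map_comp]
  have hE : ∀ j : ℤ, PreservesLimit D
      (HomologicalComplex.eval (Sheaf J AddCommGrpCat.{u}) (ComplexShape.up ℤ) j ⋙
        sheafToPresheaf J AddCommGrpCat.{u} ⋙ (evaluation Cᵒᵖ AddCommGrpCat.{u}).obj (op U) ⋙
          CategoryTheory.forget AddCommGrpCat.{u}) := fun j => inferInstance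
  let π' : ∀ n, limit D ⟶ F n := fun n => limit.π D (op n)
  refine isIso_homologyMap (A := fun n => (CohCx.sectCx J U).obj (F n)) (fun n => (CohCx.sectCx J U).map (t n))
    (fun n => (CohCx.sectCx J U).map (π' n)) n₀ m (fun j x y hxy => ?_) (fun j a hcompat => ?_)
    (fun n => by rw [← Functor.map_comp, hstep]) (ha U hU) (hb U hU) (fun k => by rw [htr k]; exact hc U hU k)
  · have := hE j
    refine ((Types.isLimit_iff_bijective_sectionOfCone _).1
      ⟨isLimitOfPreserves (HomologicalComplex.eval (Sheaf J AddCommGrpCat.{u}) (ComplexShape.up ℤ) j ⋙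
        sheafToPresheaf J AddCommGrpCat.{u} ⋙ (evaluation Cᵒᵖ AddCommGrpCat.{u}).obj (op U) ⋙
          CategoryTheory.forget AddCommGrpCat.{u}) (limit.isLimit D)⟩).1 (Subtype.ext (funext fun n => ?_))
    exact hxy n.unop
  · have := hE j
    let E := HomologicalComplex.eval (Sheaf J AddCommGrpCat.{u}) (ComplexShape.up ℤ) j ⋙
        sheafToPresheaf J AddCommGrpCat.{u} ⋙ (evaluation Cᵒᵖ AddCommGrpCat.{u}).obj (op U) ⋙
          CategoryTheory.forget AddCommGrpCat.{u}
    have hsec : ∀ {p q : ℕ} (h : p ≤ q), E.map (D.map (homOfLE h).op) (a q) = a p := by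
      intro p q h
      induction h with
      | refl =>
        rw [show (homOfLE (Nat.le.refl : p ≤ p)).op = 𝟙 (op p) from rfl, D.map_id, E.map_id]
        rfl
      | @step q h ih =>
        rw [show (homOfLE (Nat.le.step h)).op = (homOfLE (Nat.le_succ q)).op ≫ (homOfLE h).op from rfl,
          D.map_comp, E.map_comp, ConcreteCategory.comp_apply]
        refine Eq.trans (congrArg (E.map (D.map (homOfLE h).op)) ?_) ih
        rw [Functor.ofOpSequence_map_homOfLE_succ]
        exact hcompat q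
    let s : (D ⋙ E).sections := ⟨fun n => a n.unop, fun {p q} g => by
      have := hsec (leOfHom g.unop)
      exact (congrArg (fun r => E.map (D.map r) (a p.unop)) (Subsingleton.elim g (homOfLE (leOfHom g.unop)).op)).trans this⟩
    obtain ⟨x, hx⟩ := ((Types.isLimit_iff_bijective_sectionOfCone _).1
      ⟨isLimitOfPreserves E (limit.isLimit D)⟩).2 s
    exact ⟨x, fun n => congrFun (congrArg Subtype.val hx) (op n)⟩

end Groth.Agent.DSites.LimCx
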